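import Groth.Agent.H10Inj.QCoh
import Groth.Agent.H10Inj.Sections
import Groth.Agent.H4LC.Torsion
import Groth.Agent.S12902
import Groth.Agent.S12903

/-!
# Sections with support of an injective quasi-coherent module
-/

set_option autoImplicit false
set_option backward.isDefEq.respectTransparency false
set_option linter.style.haveILetI false

universe u

open CategoryTheory CategoryTheory.Limits AlgebraicGeometry TopologicalSpace Opposite

namespace Groth.Agent.H14DCoh

/-- Over an affine open the sections with support outside an open of an injective quasi-coherent module are injective. -/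
theorem injective_gammaZ_sections {U X : Scheme.{u}} (j : U ⟶ X) [IsOpenImmersion j] (I : X.Modules)
    (hI : Coh.IsQCoh I) [Injective I] {V : X.Opens} (hV : IsAffineOpen V) [IsNoetherianRing Γ(X, V)] :
    Module.Injective Γ(X, V) Γ((DCoh.gammaZ j).obj I, V) := by
  let g : (DCoh.gammaZ j).obj I ⟶ I := kernel.ι ((Scheme.Modules.restrictAdjunction j).unit.app I)
  let C : Ideal Γ(X, V) := PrimeSpectrum.vanishingIdeal (hV.fromSpec ⁻¹' (Set.range j)ᶜ)
  have hcl : PrimeSpectrum.zeroLocus (C : Set Γ(X, V)) = hV.fromSpec ⁻¹' (Set.range j)ᶜ := by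
    refine (PrimeSpectrum.zeroLocus_vanishingIdeal_eq_closure _).trans (IsClosed.closure_eq ?_)
    exact (j.isOpenEmbedding.isOpen_range.isClosed_compl).preimage hV.fromSpec.continuous
  have hZ : ∀ x : X, x ∈ V → (x ∉ Set.range j.base ↔ ∀ f ∈ C, x ∉ X.basicOpen f) := by
    intro x hx
    let p := hV.primeIdealOf ⟨x, hx⟩
    have hp : hV.fromSpec p = x := hV.fromSpec_primeIdealOf _
    have h1 : x ∉ Set.range j.base ↔ p ∈ PrimeSpectrum.zeroLocus (C : Set Γ(X, V)) := by
      constructor
      · intro h
        rw [hcl]
        show hV.fromSpec p ∉ Set.range j.base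
        rw [hp]; exact h
      · intro h
        rw [hcl] at h
        have h' : hV.fromSpec p ∉ Set.range j.base := h
        rwa [hp] at h'
    have h2 : ∀ f : Γ(X, V), x ∈ X.basicOpen f ↔ f ∉ p.asIdeal := fun f => by
      refine Iff.trans ?_ (PrimeSpectrum.mem_basicOpen f p)
      rw [← hV.fromSpec_preimage_basicOpen f]
      show x ∈ X.basicOpen f ↔ hV.fromSpec p ∈ X.basicOpen f
      rw [hp]
    rw [h1, PrimeSpectrum.mem_zeroLocus]
    exact ⟨fun h f hf hxf => (h2 f).1 hxf (h hf), fun h f hf => not_not.1 fun hn => h f hf ((h2 f).2 hn)⟩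
  let φ : Γ((DCoh.gammaZ j).obj I, V) →ₗ[Γ(X, V)] Γ(I, V) :=
    { toFun := g.app V, map_add' := map_add _, map_smul' := fun a m => g.app_smul a m }
  have hinj : Function.Injective φ := H10Coh.injective_app_of_mono' g V
  have hrange : LinearMap.range φ = DRing.torsionSub C Γ(I, V) := by
    ext s
    refine Iff.trans ?_ (S12903.main j I hI V hV C (IsNoetherian.noetherian C) hZ s)
    constructor
    · rintro ⟨t, rfl⟩
      exact congr($(congr(Scheme.Modules.Hom.app
        $(kernel.condition ((Scheme.Modules.restrictAdjunction j).unit.app I)) V)) t)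
    · intro h
      exact LeadDev.exists_kernel_section ((Scheme.Modules.restrictAdjunction j).unit.app I) V s h
  have hT : Module.Injective Γ(X, V) (DRing.torsionSub C Γ(I, V)) :=
    H4LC.injective_torsionSub _ _ (H10Inj.injective_sections I hV)
  exact (Module.Baer.of_equiv ((LinearEquiv.ofInjective φ hinj).trans (LinearEquiv.ofEq _ _ hrange)).symm
    (Module.Baer.of_injective hT)).injective

/-- Sections with support of an injective quasi-coherent module on a Noetherian scheme form an injective module. -/
theorem injective_gammaZ {U X : Scheme.{u}} [IsLocallyNoetherian X] (j : U ⟶ X) [IsOpenImmersion j] [QuasiCompact j]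
    (I : X.Modules) (hI : Coh.IsQCoh I) [Injective I] : Injective ((DCoh.gammaZ j).obj I) := by
  haveI : ((DCoh.gammaZ j).obj I).IsQuasicoherent := S12902.result j I hI
  let F := (DCoh.gammaZ j).obj I
  refine H10Inj.injective_of_locally F fun x => ?_
  obtain ⟨V, hV, hxV, -⟩ := exists_isAffineOpen_mem_and_subset (x := x) (U := (⊤ : X.Opens)) trivial
  refine ⟨V, hxV, ?_⟩
  haveI : IsNoetherianRing Γ(X, V) := IsLocallyNoetherian.component_noetherian ⟨V, hV⟩
  let G := F.restrict hV.fromSpec
  haveI : G.IsQuasicoherent := Scheme.Modules.isQuasicoherent_restrictFunctor hV.fromSpec F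
  let M := (moduleSpecΓFunctor (R := Γ(X, V))).obj G
  haveI : IsIso G.fromTildeΓ := Scheme.Modules.isIso_fromTildeΓ_of_isQuasicoherent (R := Γ(X, V)) G
  let e : tilde M ≅ G := asIso G.fromTildeΓ
  haveI : Module.Injective Γ(X, V) M :=
    (Module.Baer.of_equiv (H10Inj.gammaEquiv F hV).symm
      (Module.Baer.of_injective (injective_gammaZ_sections j I hI hV))).injective
  haveI : Injective (tilde M) := H10Inj.injective_tilde M
  haveI : Injective G := Injective.of_iso e inferInstance
  haveI := ((H10Inj.restrictEquiv hV.isoSpec).map_injective_iff G).2 inferInstance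
  exact Injective.of_iso ((Scheme.Modules.restrictFunctorComp hV.isoSpec.hom hV.fromSpec).symm.app F ≪≫
    (Scheme.Modules.restrictFunctorCongr hV.isoSpec_hom_fromSpec).app F) this

end Groth.Agent.H14DCoh
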